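import Cfsg.Agent.Omega.NO3S.FOneQ.Real
import Cfsg.Agent.Omega.NO3S.Lin
import Cfsg.Agent.Omega.NO3S.PtGeom
import Cfsg.Agent.ZN.Facts

/-!
# (F1) for `q ≥ 4`: the flag `(Z, V)` in the case (F1') gives `Fg`

`Fq S P V Z` : `PL S P V Z`, `N_G(S) ≤ N_G(V)` (UNIQ), `|Z| ≥ 4`, and **not (F1)**: `kx V Z ≤ C_G(V)`.

* `Fq.kx_le`, `Fq.conj`, `Fq.exists_line` : lines on `Z` are conjugate under `C_G(Z)`;
* `Rz.tb`, `Rz.lw`, `Rz.lam`, `Rz.im` : the images of `S`, `V` and of `D ≤ C_G(Z)`;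
* `Fq.fg` : **`Fg (r.tb S) (r.lam)`**;
* `Rz.card_im`, `Rz.index_zm` : `|im D| = |D : C_D(W)|`, `|W : C_W(im D)| = |W : C_W(D)|`.
-/

set_option autoImplicit false
set_option linter.unusedSectionVars false

namespace Cfsg.Agent.Omega.NO3S.FOneQ

open Subgroup Cfsg Cfsg.Agent.ZN Cfsg.Agent.Omega.NO3S.PT Cfsg.Agent.Omega.NO3S.FarQ
open Cfsg.Agent.ClassTwoFusion.Quad (cv mem_cv cv_anti)
open scoped Pointwise

universe u

variable {G : Type u} [Group G]

/-- the flag `(Z, V)`, without (F1) -/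
structure Fq [Finite G] (S : Sylow 2 G) (P V Z : Subgroup G) : Prop where
  pl : PL S P V Z
  ns : normalizer ((S : Subgroup G) : Set G) ≤ normalizer (V : Set G)
  four : 4 ≤ Nat.card Z
  nf : kx V Z ≤ centralizer (V : Set G)

namespace Fq

variable [Finite G] {S : Sylow 2 G} {P V Z : Subgroup G} (h : Fq S P V Z)
include h

theorem conj (g : G) : Fq (g • S) (cj g P) (cj g V) (cj g Z) where
  pl := h.pl.conj g
  ns := by
    rw [coe_smul, ← cj_normalizer, ← cj_normalizer, cj_le_cj]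
    exact h.ns
  four := by rw [card_cj]; exact h.four
  nf := by
    rw [kx_cj_left, kx_cj, ← cj_centralizer, cj_le_cj]
    exact h.nf

/-- `K_Z` centralises `W_Z`. -/
theorem kx_le : kx V Z ≤ centralizer ((ws V Z : Subgroup G) : Set G) := by
  intro k hk
  have h1 : ws V Z ≤ centralizer ({k} : Set G) := by
    refine ws_le fun L hL hZL => ?_
    obtain ⟨g, hg, rfl⟩ := PtGeom.exists_conj_flag h.pl h.pl.isCj_self hL hZL
    have h2 : k ∈ centralizer ((cj g V : Subgroup G) : Set G) := by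
      rw [← cj_centralizer]
      refine cj_le_cj.2 h.nf ?_
      rw [← kx_cj, ← hg]
      exact hk
    intro x hx
    rw [mem_centralizer_singleton_iff]
    exact (mem_centralizer_iff.1 h2 x hx)
  rw [mem_centralizer_iff]
  intro w hw
  exact mem_centralizer_singleton_iff.mp (h1 hw)

theorem cent_le : centralizer ((ws V Z : Subgroup G) : Set G) ≤ centralizer (Z : Set G) :=
  centralizer_le h.pl.Z_le_ws

/-- lines on `Z` are conjugate to `V` under `C_G(Z)` -/
theorem exists_line {L : Subgroup G} (hL : IsCj V L) (hZ : Z ≤ L) :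
    ∃ c ∈ centralizer (Z : Set G), L = cj c V := by
  obtain ⟨g, hg, rfl⟩ := PtGeom.exists_conj_flag h.pl h.pl.isCj_self hL hZ
  have h1 : ((g • S : Sylow 2 G) : Subgroup G) ≤ centralizer (Z : Set G) := by
    have h2 : cj g (centralizer (Z : Set G)) = centralizer (Z : Set G) := by
      rw [cj_centralizer, ← hg]
    rw [← h2, coe_smul]
    exact cj_le_cj.2 h.pl.S_le
  obtain ⟨c, hc, hcS⟩ := exists_conj h.pl.S_le h1
  refine ⟨c, hc, ?_⟩
  have h3 : cj c (S : Subgroup G) = cj g (S : Subgroup G) := hcS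
  have h4 : c⁻¹ * g ∈ normalizer ((S : Subgroup G) : Set G) := by
    rw [← cj_eq_iff, ← cj_cj, ← h3, cj_cj, inv_mul_cancel, cj_one]
  have h5 := cj_eq_iff.2 (h.ns h4)
  rw [← cj_cj] at h5
  have h6 := congrArg (cj c) h5
  rwa [cj_cj, mul_inv_cancel, cj_one] at h6

/-- lines are TI: `g ∈ C_G(Z)`, `v, v^g ∈ V`, `v ∉ Z` -/
theorem mem_normalizer_of_mem {g v : G} (hg : g ∈ centralizer (Z : Set G)) (hv : v ∈ V) (hvZ : v ∉ Z)
    (hgv : g * v * g⁻¹ ∈ V) : g ∈ normalizer (V : Set G) := by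
  have hv1 : v ≠ 1 := fun e => hvZ (by rw [e]; exact one_mem _)
  obtain ⟨X, hX, hXV, hvX⟩ := h.pl.exists_point hv hv1
  have hXZ : X ≠ Z := fun e => hvZ (e ▸ hvX)
  have hgv1 : g * v * g⁻¹ ≠ 1 := fun e => hv1 (conj_eq_one_iff.1 e)
  obtain ⟨Y, hY, hYV, hvY⟩ := h.pl.exists_point hgv hgv1
  have hXY : cj g X = Y := h.pl.pts_eq (hX.cj g) hY (conj_mem_cj hvX) hvY hgv1
  have h1 : cj g V ≤ V := by
    intro x hx
    rw [mem_cj] at hx
    obtain ⟨z, hz, y, hy, he⟩ := h.pl.exists_mul h.pl.isCj_self h.pl.ZV hX hXV hXZ.symm hx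
    have e : x = g * z * g⁻¹ * (g * y * g⁻¹) := by
      calc x = g * (g⁻¹ * x * g) * g⁻¹ := by group
        _ = g * (z * y) * g⁻¹ := by rw [he]
        _ = _ := by group
    rw [e]
    refine V.mul_mem ?_ ?_
    · rw [← mem_centralizer_iff.1 hg z hz, mul_inv_cancel_right]
      exact h.pl.ZV hz
    · apply hYV
      rw [← hXY]
      exact conj_mem_cj hy
  rw [← cj_eq_iff]
  exact Subgroup.eq_of_le_of_card_ge h1 (card_cj g V).ge

end Fq

/-! ### the images -/

namespace Rz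

variable {V Z : Subgroup G} {H W M : Type u} [Group H] [CommGroup W] [CommGroup M] [MulDistribMulAction H W]
  [MulDistribMulAction H M] (r : Rz V Z H W M)

/-- the image of `D ∩ C_G(Z)` -/
def im (D : Subgroup G) : Subgroup H := (D.subgroupOf (centralizer (Z : Set G))).map r.ρ

/-- the subgroup `D ∩ W_Z` of `W` -/
def cw (D : Subgroup G) : Subgroup W := D.comap r.ι

/-- the image of `D ∩ W_Z` in `M` -/
def mw (D : Subgroup G) : Subgroup M := (r.cw D).map r.π

theorem mem_im {D : Subgroup G} (hD : D ≤ centralizer (Z : Set G)) {x : H} :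
    x ∈ r.im D ↔ ∃ g, ∃ hg : g ∈ D, r.ρ ⟨g, hD hg⟩ = x := by
  constructor
  · rintro ⟨c, hc, rfl⟩
    exact ⟨c, mem_subgroupOf.1 hc, rfl⟩
  · rintro ⟨g, hg, rfl⟩
    exact ⟨⟨g, hD hg⟩, mem_subgroupOf.2 hg, rfl⟩

theorem ext_ : Ext H r.π where
  surj := r.psurj
  act := r.pact
  cen := by
    intro w hw h
    obtain ⟨c, rfl⟩ := r.surj h
    apply r.inj
    rw [r.act, ← mem_centralizer_iff.1 c.2 _ ((r.pker w).1 hw), mul_inv_cancel_right]

theorem ι_mem (w : W) : r.ι w ∈ ws V Z := (r.rng _).2 ⟨w, rfl⟩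

theorem range_ι : r.ι.range = ws V Z := by
  ext g
  rw [MonoidHom.mem_range, r.rng]

theorem ρ_eq_one_iff (c : centralizer (Z : Set G)) :
    r.ρ c = 1 ↔ (c : G) ∈ centralizer ((ws V Z : Subgroup G) : Set G) := by
  rw [mem_centralizer_iff]
  constructor
  · intro h g hg
    obtain ⟨w, rfl⟩ := (r.rng g).1 hg
    have h1 := r.act c w
    rw [h, one_smul, eq_mul_inv_iff_mul_eq] at h1
    exact h1
  · intro h
    refine r.faith _ fun w => ?_
    apply r.inj
    rw [r.act, ← h _ (r.ι_mem w), mul_inv_cancel_right]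

theorem ker_ρ : r.ρ.ker = (centralizer ((ws V Z : Subgroup G) : Set G)).subgroupOf (centralizer (Z : Set G)) := by
  ext c
  rw [MonoidHom.mem_ker, r.ρ_eq_one_iff, mem_subgroupOf]

/-- `|im D| = |D : C_D(W)|` -/
theorem card_im {D : Subgroup G} (hD : D ≤ centralizer (Z : Set G)) :
    Nat.card (r.im D) = (centralizer ((ws V Z : Subgroup G) : Set G)).relIndex D := by
  rw [im, ← relIndex_ker, r.ker_ρ, relIndex_subgroupOf hD]

theorem mem_zmW {D : Subgroup G} (hD : D ≤ centralizer (Z : Set G)) {w : W} :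
    w ∈ zm W (r.im D) ↔ r.ι w ∈ centralizer (D : Set G) := by
  rw [mem_centralizer_iff]
  constructor
  · intro h g hg
    have h1 := h _ ((r.mem_im hD).2 ⟨g, hg, rfl⟩)
    have h2 := r.act ⟨g, hD hg⟩ w
    rw [h1, eq_mul_inv_iff_mul_eq] at h2
    exact h2.symm
  · intro h x hx
    obtain ⟨g, hg, rfl⟩ := (r.mem_im hD).1 hx
    apply r.inj
    rw [r.act, h g hg, mul_inv_cancel_right]

/-- `|W : C_W(im D)| = |W_Z : C_{W_Z}(D)|` -/
theorem index_zmW {D : Subgroup G} (hD : D ≤ centralizer (Z : Set G)) :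
    (zm W (r.im D)).index = (centralizer (D : Set G)).relIndex (ws V Z) := by
  have h1 : zm W (r.im D) = (centralizer (D : Set G)).comap r.ι := by
    ext w
    rw [r.mem_zmW hD, mem_comap]
  rw [h1, index_comap, r.range_ι]

theorem zmW_le {A : Subgroup H} : zm W A ≤ (zm M A).comap r.π := by
  intro w hw a ha
  rw [← r.pact, hw a ha]

theorem finW [Finite G] (r : Rz V Z H W M) : Finite W := Finite.of_injective r.ι r.inj

theorem finM [Finite G] (r : Rz V Z H W M) : Finite M := by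
  have := r.finW
  exact Finite.of_surjective r.π r.psurj

theorem finH [Finite G] (r : Rz V Z H W M) : Finite H := Finite.of_surjective r.ρ r.surj

include r in
/-- `|M : C_M(A)| ≤ |W : C_W(A)|` -/
theorem index_zm_le [Finite G] (A : Subgroup H) : (zm M A).index ≤ (zm W A).index := by
  have := r.finW
  rw [← index_comap_of_surjective (zm M A) r.psurj]
  exact Nat.le_of_dvd (Nat.pos_of_ne_zero index_ne_zero_of_finite) (index_dvd_of_le r.zmW_le)

theorem zmW_eq [Finite G] {A : Subgroup H} (h : (zm W A).index ≤ (zm M A).index) :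
    zm W A = (zm M A).comap r.π := by
  have := r.finW
  refine le_antisymm r.zmW_le ?_
  have h1 := relIndex_mul_index (r.zmW_le (A := A))
  rw [index_comap_of_surjective (zm M A) r.psurj] at h1
  have h2 : (zm M A).index ≠ 0 := by
    have := r.finM
    exact index_ne_zero_of_finite
  have h3 : (zm W A).relIndex ((zm M A).comap r.π) ≤ 1 := by
    by_contra hcon
    push Not at hcon
    have h4 : 1 * (zm M A).index < (zm W A).relIndex ((zm M A).comap r.π) * (zm M A).index :=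
      Nat.mul_lt_mul_of_pos_right hcon (Nat.pos_of_ne_zero h2)
    rw [h1, one_mul] at h4
    omega
  have h5 : (zm W A).relIndex ((zm M A).comap r.π) ≠ 0 := index_ne_zero_of_finite
  exact relIndex_eq_one.1 (by omega)

end Rz

namespace Fq

variable [Finite G] {S : Sylow 2 G} {P V Z : Subgroup G} (h : Fq S P V Z)
  {H W M : Type u} [Group H] [CommGroup W] [CommGroup M] [MulDistribMulAction H W] [MulDistribMulAction H M]
  (r : Rz V Z H W M)
include h

theorem V_le_ws : V ≤ ws V Z := h.pl.V_le_ws h.pl.ZV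

theorem mem_lam {m : M} : m ∈ r.mw V ↔ ∃ w ∈ r.cw V, r.π w = m := Iff.rfl

theorem π_eq_one_iff {w : W} : r.π w = 1 ↔ r.ι w ∈ Z := r.pker w

theorem card_lam : Nat.card (r.mw V) = Nat.card Z := by
  have h1 : r.π.ker = Z.comap r.ι := by
    ext w
    rw [MonoidHom.mem_ker, r.pker, mem_comap]
  have h2 : Nat.card (r.mw V) = Z.relIndex V := by
    rw [Rz.mw, ← relIndex_ker, h1, relIndex_comap, Rz.cw, map_comap_eq, r.range_ι,
      inf_eq_right.2 h.V_le_ws]
  have h3 := relIndex_mul_relIndex ⊥ Z V bot_le h.pl.ZV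
  rw [relIndex_bot_left, relIndex_bot_left] at h3
  rw [← h2, h.pl.card] at h3
  exact Nat.eq_of_mul_eq_mul_left Nat.card_pos h3

/-- an element of `C_G(Z)` whose image normalises the image of `S` normalises `V` -/
theorem mem_normalizer (c : centralizer (Z : Set G))
    (hc : r.ρ c ∈ normalizer (r.im (S : Subgroup G) : Set H)) : (c : G) ∈ normalizer (V : Set G) := by
  set K := centralizer ((ws V Z : Subgroup G) : Set G) with hK
  have hKV : K ≤ normalizer (V : Set G) := (centralizer_le h.V_le_ws).trans (centralizer_le_normalizer _)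
  have hSV : (S : Subgroup G) ≤ normalizer (V : Set G) := h.pl.SP.trans h.pl.PN
  have h1 : (((c : G) • S : Sylow 2 G) : Subgroup G) ≤ (S : Subgroup G) ⊔ K := by
    rw [coe_smul]
    intro x hx
    obtain ⟨s, hs, rfl⟩ := mem_cj'.1 hx
    have h2 : r.ρ c * r.ρ ⟨s, h.pl.S_le hs⟩ * (r.ρ c)⁻¹ ∈ r.im (S : Subgroup G) :=
      (mem_normalizer_iff.1 hc _).1 ((r.mem_im h.pl.S_le).2 ⟨s, hs, rfl⟩)
    obtain ⟨s', hs', he⟩ := (r.mem_im h.pl.S_le).1 h2
    have h3 : r.ρ (c * ⟨s, h.pl.S_le hs⟩ * c⁻¹ * ⟨s', h.pl.S_le hs'⟩⁻¹) = 1 := by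
      rw [map_mul, map_mul, map_mul, map_inv, map_inv, he, mul_inv_cancel]
    rw [r.ρ_eq_one_iff] at h3
    have h4 : (c : G) * s * (c : G)⁻¹ * s'⁻¹ ∈ K := h3
    have h5 := mul_mem (mem_sup_right h4 : _ ∈ (S : Subgroup G) ⊔ K) (mem_sup_left hs')
    rwa [inv_mul_cancel_right] at h5
  obtain ⟨x, hx, hxS⟩ := exists_conj (S := S) (H := (S : Subgroup G) ⊔ K) le_sup_left h1
  have h3 : cj x (S : Subgroup G) = cj (c : G) (S : Subgroup G) := hxS
  have h4 : x⁻¹ * c ∈ normalizer ((S : Subgroup G) : Set G) := by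
    rw [← cj_eq_iff, ← cj_cj, ← h3, cj_cj, inv_mul_cancel, cj_one]
  have h5 := mul_mem (sup_le hSV hKV hx) (h.ns h4)
  rwa [mul_inv_cancel_left] at h5

theorem smul_lam {c : centralizer (Z : Set G)} (hc : (c : G) ∈ normalizer (V : Set G)) :
    ∀ a ∈ r.mw V, r.ρ c • a ∈ r.mw V := by
  rintro _ ⟨w, hw, rfl⟩
  refine ⟨r.ρ c • w, ?_, r.pact _ _⟩
  show r.ι (r.ρ c • w) ∈ V
  rw [r.act]
  exact (mem_normalizer_iff.1 hc _).1 hw

/-- **The flag facts** in the case (F1'). -/
theorem fg : Fg (r.im (S : Subgroup G)) (r.mw V) where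
  finH := r.finH
  finM := r.finM
  sq := by
    intro m
    obtain ⟨w, rfl⟩ := r.psurj m
    rw [← map_mul]
    have : w * w = 1 := r.inj (by rw [map_mul, map_one, h.pl.ws_sq _ (r.ι_mem w)])
    rw [this, map_one]
  faith := by
    intro x hx
    obtain ⟨c, rfl⟩ := r.surj x
    rw [r.ρ_eq_one_iff]
    refine h.kx_le ⟨fun z hz => (mem_centralizer_iff.1 c.2 z hz).symm, fun w hw => ?_⟩
    obtain ⟨w, rfl⟩ := (r.rng w).1 hw
    have h1 := hx (r.π w)
    rw [← r.pact] at h1
    have h2 : r.π ((r.ρ c • w) * w⁻¹) = 1 := by rw [map_mul, map_inv, h1, mul_inv_cancel]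
    rw [r.pker, map_mul, map_inv, r.act] at h2
    exact h2
  two := (S.isPGroup'.comap_of_injective _ (subtype_injective _)).map _
  ndvd := by
    intro h2
    have h3 := h2.trans (index_map_dvd ((S : Subgroup G).subgroupOf (centralizer (Z : Set G))) r.surj)
    have h4 : ((S : Subgroup G).subgroupOf (centralizer (Z : Set G))).index ∣ (S : Subgroup G).index := by
      have := relIndex_mul_index h.pl.S_le
      exact ⟨_, this.symm⟩
    have : Fact (Nat.Prime 2) := ⟨Nat.prime_two⟩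
    exact S.not_dvd_index (h3.trans h4)
  four := by rw [h.card_lam]; exact h.four
  fix := by
    rintro x hx _ ⟨w, hw, rfl⟩
    obtain ⟨s, hs, rfl⟩ := (r.mem_im h.pl.S_le).1 hx
    have h1 := h.pl.act s hs _ hw
    have h2 : r.π ((r.ρ ⟨s, h.pl.S_le hs⟩ • w) * w⁻¹) = 1 := by
      rw [r.pker, map_mul, map_inv, r.act]
      exact h1
    rw [map_mul, map_inv, r.pact] at h2
    exact mul_inv_eq_one.1 h2
  norm := by
    intro x hx
    obtain ⟨c, rfl⟩ := r.surj x
    exact h.smul_lam r (h.mem_normalizer r c hx)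
  lin := by
    rintro _ ⟨w, hw, rfl⟩ hw1 x hx _ ⟨w', hw', rfl⟩
    obtain ⟨c, rfl⟩ := r.surj x
    rw [Ne, r.pker] at hw1
    have h1 : ∀ u : W, r.ρ c • r.π u = r.π u ↔ (c : G) * r.ι u * (c : G)⁻¹ * (r.ι u)⁻¹ ∈ Z := by
      intro u
      rw [← mul_inv_eq_one, ← r.pact, ← map_inv, ← map_mul, r.pker, map_mul, map_inv, r.act]
    rw [h1] at hx ⊢
    exact h.pl.lin (fun z hz => (mem_centralizer_iff.1 c.2 z hz).symm) hw hw1 hx _ hw'
  til := by
    rintro _ ⟨w, hw, rfl⟩ hw1 x hx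
    obtain ⟨c, rfl⟩ := r.surj x
    rw [Ne, r.pker] at hw1
    refine h.smul_lam r (h.mem_normalizer_of_mem c.2 hw hw1 ?_)
    obtain ⟨w', hw', he⟩ := hx
    rw [← r.pact] at he
    have h2 : r.π (w' * (r.ρ c • w)⁻¹) = 1 := by rw [map_mul, map_inv, he, mul_inv_cancel]
    rw [r.pker, map_mul, map_inv, r.act] at h2
    have h3 := V.mul_mem (V.inv_mem (h.pl.ZV h2)) hw'
    rw [mul_inv_rev, inv_inv, mul_assoc, inv_mul_cancel, mul_one] at h3
    exact h3
  gen := by
    intro N hN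
    have h1 : ws V Z ≤ (N.comap r.π).map r.ι := by
      refine ws_le fun L hL hZL => ?_
      obtain ⟨c, hc, rfl⟩ := h.exists_line hL hZL
      intro x hx
      obtain ⟨v, hv, rfl⟩ := mem_cj'.1 hx
      obtain ⟨w, rfl⟩ := (r.rng v).1 (h.V_le_ws hv)
      refine ⟨r.ρ ⟨c, hc⟩ • w, ?_, r.act _ _⟩
      show r.π (r.ρ ⟨c, hc⟩ • w) ∈ N
      rw [r.pact]
      exact hN _ _ ⟨w, hv, rfl⟩
    rw [eq_top_iff]
    intro m _
    obtain ⟨w, rfl⟩ := r.psurj m
    obtain ⟨w', hw', he⟩ := h1 (r.ι_mem w)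
    rw [← r.inj he]
    exact hw'
  core := by
    intro N hN h2
    have : Fact (Nat.Prime 2) := ⟨Nat.prime_two⟩
    have hfH := r.finH
    set T := r.im (S : Subgroup G) with hT
    have hTp : IsPGroup 2 T := (S.isPGroup'.comap_of_injective _ (subtype_injective _)).map _
    have hTi : ¬ 2 ∣ T.index := by
      intro h2
      have h3 := h2.trans (index_map_dvd ((S : Subgroup G).subgroupOf (centralizer (Z : Set G))) r.surj)
      have h4 : ((S : Subgroup G).subgroupOf (centralizer (Z : Set G))).index ∣ (S : Subgroup G).index := by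
        have := relIndex_mul_index h.pl.S_le
        exact ⟨_, this.symm⟩
      exact S.not_dvd_index (h3.trans h4)
    let T' : Sylow 2 H := hTp.toSylow hTi
    have hNT : N ≤ T := by
      have h1 : IsPGroup 2 (T ⊔ N : Subgroup H) := hTp.to_sup_of_normal_right h2
      have h3 := T'.is_maximal' h1 le_sup_left
      have h4 : T ⊔ N = T := h3
      rw [← h4]
      exact le_sup_right
    rw [eq_bot_iff]
    intro n hn
    rw [mem_bot]
    have hfix : ∀ n ∈ N, ∀ w ∈ r.cw V, n • r.π w = r.π w := by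
      intro n hn w hw
      obtain ⟨s, hs, rfl⟩ := (r.mem_im h.pl.S_le).1 (hNT hn)
      have h1 := h.pl.act s hs _ hw
      have h2 : r.π ((r.ρ ⟨s, h.pl.S_le hs⟩ • w) * w⁻¹) = 1 := by
        rw [r.pker, map_mul, map_inv, r.act]
        exact h1
      rw [map_mul, map_inv, r.pact] at h2
      exact mul_inv_eq_one.1 h2
    -- `n` fixes `W / Z`
    have key : ∀ w ∈ ws V Z, ∃ w' : W, r.ι w' = w ∧ ∀ n ∈ N, n • r.π w' = r.π w' := by
      let U : Subgroup W :=
        { carrier := {w' | ∀ n ∈ N, n • r.π w' = r.π w'}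
          one_mem' := fun n _ => by rw [map_one, smul_one]
          mul_mem' := fun {a b} ha hb n hn => by rw [map_mul, smul_mul', ha n hn, hb n hn]
          inv_mem' := fun {a} ha n hn => by rw [map_inv, smul_inv', ha n hn] }
      have h1 : ws V Z ≤ U.map r.ι := by
        refine ws_le fun L hL hZL => ?_
        obtain ⟨c, hc, rfl⟩ := h.exists_line hL hZL
        intro x hx
        obtain ⟨v, hv, rfl⟩ := mem_cj'.1 hx
        obtain ⟨w, rfl⟩ := (r.rng v).1 (h.V_le_ws hv)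
        refine ⟨r.ρ ⟨c, hc⟩ • w, ?_, r.act _ _⟩
        intro n hn
        rw [r.pact]
        have h3 := hfix ((r.ρ ⟨c, hc⟩)⁻¹ * n * r.ρ ⟨c, hc⟩) (by
          have := hN.conj_mem n hn (r.ρ ⟨c, hc⟩)⁻¹
          rwa [inv_inv] at this) w hv
        rw [mul_smul, mul_smul, inv_smul_eq_iff] at h3
        exact h3
      intro w hw
      obtain ⟨w', hw', he⟩ := h1 hw
      exact ⟨w', he, hw'⟩
    obtain ⟨c, rfl⟩ := r.surj n
    rw [r.ρ_eq_one_iff]
    refine h.kx_le ⟨fun z hz => (mem_centralizer_iff.1 c.2 z hz).symm, fun w hw => ?_⟩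
    obtain ⟨w, rfl, hw'⟩ := key w hw
    have h1 := hw' _ hn
    rw [← r.pact] at h1
    have h2 : r.π ((r.ρ c • w) * w⁻¹) = 1 := by rw [map_mul, map_inv, h1, mul_inv_cancel]
    rw [r.pker, map_mul, map_inv, r.act] at h2
    exact h2

end Fq

end Cfsg.Agent.Omega.NO3S.FOneQ
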