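import Cfsg.Agent.Omega.NO3S.FarQ.Core
import Cfsg.Agent.Omega.NO3S.FarQ.Theta

/-!
# (F1) for `q ≥ 4`: the abstract part (TEXT F1Q, bb OMEGA #15867, #17505 of helper471, referee #16129 of helper661)

`H` acts on the abelian group `W` and on `M = W / R` (`Ext π`: `π : W →* M` surjective and equivariant, `H` centralises
`R = ker π`).

* `Fg T lam` : the K-free data of a flag in the case (F1') (= `FarQ.Flag` without (F1), (U));
* `NoOv H lam` : no over-offender in `O₂(C_H(lam))`;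
* `PSf T lam Pi` : **the K-input**: `Pi` is the set of blocks (the fields `comm`, `em_le`, `tor`, `prod`, `hit` of
  `FarQ.PSq`, blocks are perfect, and `cent`);
* `core` : no exact `A` satisfies `C_M(A) = C_W(A) / R`.
-/

set_option autoImplicit false
set_option linter.unusedSectionVars false

namespace Cfsg.Agent.Omega.NO3S.FOneQ

open Subgroup Cfsg.Agent.ZN Cfsg.Agent.Omega.NO3S.PT Cfsg.Agent.Omega.NO3S.FarQ
open Cfsg.Agent.ClassTwoFusion.Quad (cv mem_cv cv_anti)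
open scoped Pointwise

section defs

variable {H M : Type*} [Group H] [CommGroup M] [MulDistribMulAction H M]

/-- **The K-free data of a flag, in the case (F1').** `H = C_G(p) / C_G(W_p)`, `M = W_p / p`, `lam = V_l / p`. -/
structure Fg (T : Subgroup H) (lam : Subgroup M) : Prop where
  finH : Finite H
  finM : Finite M
  sq : ∀ m : M, m * m = 1
  faith : ∀ h : H, (∀ m : M, h • m = m) → h = 1
  two : IsPGroup 2 T
  ndvd : ¬ 2 ∣ T.index
  four : 4 ≤ Nat.card lam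
  fix : ∀ t ∈ T, ∀ a ∈ lam, t • a = a
  /-- from UNIQ: `N_G(T) ≤ N_G(V_l)` -/
  norm : ∀ h ∈ normalizer (T : Set H), ∀ a ∈ lam, h • a ∈ lam
  /-- (LIN) -/
  lin : ∀ a ∈ lam, a ≠ 1 → ∀ h : H, h • a = a → ∀ b ∈ lam, h • b = b
  /-- lines are TI -/
  til : ∀ a ∈ lam, a ≠ 1 → ∀ h : H, h • a ∈ lam → ∀ b ∈ lam, h • b ∈ lam
  /-- `M = ⟨lam^H⟩` -/
  gen : ∀ N : Subgroup M, (∀ h : H, ∀ a ∈ lam, h • a ∈ N) → N = ⊤
  /-- `O₂(H) = 1` -/
  core : ∀ N : Subgroup H, N.Normal → IsPGroup 2 N → N = ⊥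

variable (H) in
/-- **No over-offender** in `O₂(C_H(lam))`. -/
def NoOv (lam : Subgroup M) : Prop :=
  ∀ A : Subgroup H, A ≤ o2 (fixer lam) → (∀ a ∈ A, ∀ b ∈ A, a * b = b * a) → (∀ a ∈ A, a * a = 1) →
    (∀ a ∈ A, ∀ b ∈ A, ∀ m : M, b • ((a • m) * m⁻¹) = (a • m) * m⁻¹) → Nat.card A ≤ (zm M A).index

/-- **The K-input** for (F1), `q ≥ 4`: `Pi` is the set of blocks of `H` on `M`. -/
structure PSf (T : Subgroup H) (lam : Subgroup M) (Pi : Set (Subgroup H)) : Prop where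
  comm : ∀ J ∈ Pi, ∀ J' ∈ Pi, J ≠ J' → ∀ x ∈ J, ∀ y ∈ J', x * y = y * x
  conj : ∀ J ∈ Pi, ∀ h : H, cj h J ∈ Pi
  /-- `[M, J]` is centralised by the other blocks -/
  em_le : ∀ J ∈ Pi, ∀ J' ∈ Pi, J ≠ J' → em M J ≤ zm M J'
  /-- the torus element -/
  tor : ∀ J ∈ Pi, ¬ lam ≤ zm M J → ∃ θ ∈ J, (∀ t ∈ T, cj t J = J → t * θ * t⁻¹ * θ⁻¹ ∈ T ⊓ J) ∧
    ∀ a ∈ lam, (θ • a) * a⁻¹ ∈ zm M J → a = 1
  prod : ∀ A : Subgroup H, Exact lam A → A ≤ closure {x | ∃ J ∈ Pi, x ∈ A ⊓ J}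
  hit : ∀ A : Subgroup H, Exact lam A → ∀ J ∈ Pi, A ⊓ J ≠ ⊥ → ¬ lam ≤ zm M J
  /-- blocks are perfect -/
  pf : ∀ J ∈ Pi, J ≤ ⁅J, J⁆
  /-- `SL₂(r)`: `A ∩ J` is a Sylow subgroup of `J`; otherwise `C = C_J(lam)` -/
  cent : ∀ A : Subgroup H, Exact lam A → ∀ J ∈ Pi, A ⊓ J ≠ ⊥ → T ⊓ J ≤ A ∨
    ∃ C : Subgroup H, C ≤ J ∧ T ⊓ J ≤ ⁅C, C⁆ ∧
      ∀ m ∈ em M J, (∀ t ∈ T ⊓ J, t • m = m) → ∀ c ∈ C, (c • m) * m⁻¹ ∈ zm M J

end defs

variable {H W M : Type*} [Group H] [CommGroup W] [CommGroup M] [MulDistribMulAction H W] [MulDistribMulAction H M]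

/-- `M = W / R`, `H` centralises `R`. -/
structure Ext (H : Type*) {W M : Type*} [Group H] [CommGroup W] [CommGroup M] [MulDistribMulAction H W]
    [MulDistribMulAction H M] (π : W →* M) : Prop where
  surj : Function.Surjective π
  act : ∀ (h : H) w, π (h • w) = h • π w
  cen : ∀ w, π w = 1 → ∀ h : H, h • w = w

/-- `D` centralises `B` and `[u, D] ≤ B`: `[D, D]` centralises `u`. -/
theorem smul_eq_of_commutator {D : Subgroup H} {u : W} {B : Subgroup W} (hB : ∀ b ∈ B, ∀ d ∈ D, d • b = b)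
    (hu : ∀ d ∈ D, (d • u) * u⁻¹ ∈ B) : ∀ c ∈ ⁅D, D⁆, c • u = u := by
  let f : D →* W :=
    { toFun := fun d => ((d : H) • u) * u⁻¹
      map_one' := by
        show ((1 : H) • u) * u⁻¹ = 1
        rw [one_smul, mul_inv_cancel]
      map_mul' := by
        rintro ⟨a, ha⟩ ⟨b, hb⟩
        show ((a * b) • u) * u⁻¹ = ((a • u) * u⁻¹) * ((b • u) * u⁻¹)
        have h1 := hB _ (hu b hb) a ha
        have h2 : (a * b) • u = ((b • u) * u⁻¹) * (a • u) := by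
          calc (a * b) • u = a • (((b • u) * u⁻¹) * u) := by rw [inv_mul_cancel_right, mul_smul]
            _ = _ := by rw [smul_mul', h1]
        rw [h2, mul_assoc, mul_comm] }
  intro c hc
  have h1 : ⁅D, D⁆ = (⁅(⊤ : Subgroup D), (⊤ : Subgroup D)⁆).map D.subtype := by
    rw [map_commutator, ← MonoidHom.range_eq_map, range_subtype]
  rw [h1] at hc
  obtain ⟨x, hx, rfl⟩ := hc
  have h2 : ⁅(⊤ : Subgroup D), (⊤ : Subgroup D)⁆ ≤ f.ker := by
    rw [commutator_le]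
    intro a _ b _
    rw [MonoidHom.mem_ker, map_commutatorElement, commutatorElement_eq_one_iff_mul_comm]
    exact mul_comm _ _
  have h3 : f x = 1 := h2 hx
  exact mul_inv_eq_one.1 h3

namespace Ext

variable {π : W →* M} (E : Ext H π)
include E

theorem map_em {J : Subgroup H} {u : W} (hu : u ∈ em W J) : π u ∈ em M J := by
  have h1 : em W J ≤ (em M J).comap π := by
    rw [em_le_iff]
    intro j hj w
    rw [mem_comap, map_mul, map_inv, E.act]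
    exact comm_mem_em hj _
  exact h1 hu

/-- a perfect group is trivial on `u` if it is trivial on `π u` -/
theorem smul_of_perf {J : Subgroup H} (hJ : J ≤ ⁅J, J⁆) {u : W} (hu : π u ∈ zm M J) : u ∈ zm W J := by
  intro j hj
  refine smul_eq_of_commutator (B := π.ker) (fun b hb d _ => E.cen b hb d) (fun d hd => ?_) j (hJ hj)
  rw [MonoidHom.mem_ker, map_mul, map_inv, E.act, hu d hd, mul_inv_cancel]

end Ext

variable {T : Subgroup H} {lam : Subgroup M} {Pi : Set (Subgroup H)} {π : W →* M}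

theorem am_mono {N N' : Subgroup W} (h : N ≤ N') : (am N : Subgroup H) ≤ am N' := fun _ hx m => h (hx m)

/-- **The abstract core of (F1) for `q ≥ 4`.** -/
theorem core (E : Ext H π) (F : Fg T lam) (P : PSf T lam Pi) {L : Subgroup W}
    (hL : ∀ m, m ∈ lam ↔ ∃ w ∈ L, π w = m) (hR : ∀ w, π w = 1 → w ∈ L)
    (hfix : ∀ w ∈ L, (∀ t ∈ T, t • w = w) → π w = 1) {A : Subgroup H} (hA : Exact lam A) (hAT : A ≤ T)
    (hex : ∀ w : W, (∀ a ∈ A, a • π w = π w) → ∀ a ∈ A, a • w = w) : False := by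
  have hfH := F.finH
  have hfM := F.finM
  -- a block `J` with `A ∩ J ≠ 1`
  obtain ⟨J, hJ, hAJ⟩ : ∃ J ∈ Pi, A ⊓ J ≠ ⊥ := by
    by_contra hcon
    push Not at hcon
    apply hA.ne
    rw [eq_bot_iff]
    refine (P.prod A hA).trans ((closure_le _).2 ?_)
    rintro x ⟨J, hJ, hx⟩
    rw [hcon J hJ] at hx
    exact hx
  have hlam := P.hit A hA J hJ hAJ
  obtain ⟨θ, hθ, hθ1, hθ2⟩ := P.tor J hJ hlam
  -- the claim for `J`
  have claim : ∀ u ∈ em W J, (∀ t ∈ T ⊓ J, t • π u = π u) → ∀ t ∈ T ⊓ J, t • u = u := by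
    intro u hu h1 t ht
    rcases P.cent A hA J hJ hAJ with h2 | ⟨C, hC, hTC, h3⟩
    · refine hex u ?_ t (h2 ht)
      have h4 : A ≤ MulAction.stabilizer H (π u) := by
        refine (P.prod A hA).trans ((closure_le _).2 ?_)
        rintro x ⟨J', hJ', hx⟩
        rw [SetLike.mem_coe, MulAction.mem_stabilizer_iff]
        by_cases e : J = J'
        · subst e
          exact h1 x ⟨hAT hx.1, hx.2⟩
        · exact P.em_le J hJ J' hJ' e (E.map_em hu) x hx.2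
      intro a ha
      exact MulAction.mem_stabilizer_iff.1 (h4 ha)
    · refine smul_eq_of_commutator (D := C) (B := zm W J) (fun b hb d hd => hb d (hC hd)) (fun d hd => ?_) t (hTC ht)
      refine E.smul_of_perf (P.pf J hJ) ?_
      rw [map_mul, map_inv, E.act]
      exact h3 _ (E.map_em hu) h1 d hd
  -- for the conjugates
  have claim' : ∀ s ∈ T, ∀ u ∈ em W (cj s J), (∀ t ∈ T ⊓ cj s J, t • π u = π u) → ∀ t ∈ T ⊓ cj s J, t • u = u := by
    intro s hs u hu h1 t ht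
    have h2 : s⁻¹ • u ∈ em W J := by
      have := smul_mem_em (h := s⁻¹) hu
      rwa [cj_cj, inv_mul_cancel, cj_one] at this
    have h3 := claim _ h2 (fun t' ht' => ?_) (s⁻¹ * t * s) ⟨T.mul_mem (T.mul_mem (T.inv_mem hs) ht.1) hs, mem_cj.1 ht.2⟩
    · rw [smul_smul, mul_assoc, mul_inv_cancel, mul_one, mul_smul] at h3
      exact smul_left_cancel _ h3
    · have h4 := h1 (s * t' * s⁻¹) ⟨T.mul_mem (T.mul_mem hs ht'.1) (T.inv_mem hs), conj_mem_cj ht'.2⟩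
      rw [E.act]
      have e : (s * t' * s⁻¹) • π u = s • (t' • (s⁻¹ • π u)) := by rw [smul_smul, smul_smul, mul_assoc]
      rw [e, smul_eq_iff_eq_inv_smul] at h4
      exact h4
  have hcJ : ∀ s : H, cj s J ∈ Pi := fun s => P.conj J hJ s
  -- the other blocks centralise `[W, J']`
  have hemW : ∀ J₁ ∈ Pi, ∀ J₂ ∈ Pi, J₁ ≠ J₂ → em W J₁ ≤ zm W J₂ := fun J₁ h1 J₂ h2 hne u hu =>
    E.smul_of_perf (P.pf J₂ h2) (P.em_le J₁ h1 J₂ h2 hne (E.map_em hu))
  -- `ϑ`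
  obtain ⟨θ', hθ', hϑ⟩ := Theta.exists_theta (T := T) (J := J) hθ
    (fun s _ t _ hne x hx y hy => P.comm _ (hcJ s) _ (hcJ t) hne x hx y hy) hθ1
  set ϑ := θ * θ' with hϑd
  set T₀ : Subgroup H := closure {x | ∃ s ∈ T, x ∈ T ⊓ cj s J} with hT₀
  have hT₀T : T₀ ≤ T := by
    refine (closure_le _).2 ?_
    rintro x ⟨s, -, hx⟩
    exact hx.1
  have hϑT : ϑ ∈ normalizer (T : Set H) := by
    rw [← cj_eq_iff]
    have h1 : cj ϑ T ≤ T := by
      intro x hx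
      obtain ⟨t, ht, rfl⟩ := mem_cj'.1 hx
      have h2 := T.mul_mem (T.inv_mem ht) (hT₀T (hϑ t ht))
      have h3 : (t⁻¹ * (t * ϑ * t⁻¹ * ϑ⁻¹))⁻¹ = ϑ * t * ϑ⁻¹ := by group
      rw [← h3]
      exact T.inv_mem h2
    exact Subgroup.eq_of_le_of_card_ge h1 (card_cj ϑ T).ge
  have hϑlam : ∀ a ∈ lam, ϑ • a ∈ lam := F.norm ϑ hϑT
  -- `θ'` centralises `M / C_M(J)`
  have hθ'm : θ' ∈ (am (zm M J) : Subgroup H) := by
    refine (closure_le (am (zm M J) : Subgroup H)).2 ?_ hθ'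
    rintro x ⟨t, -, hne, hx⟩
    have h1 := P.em_le (cj t J) (hcJ t) J hJ hne
    exact fun m => h1 (comm_mem_em hx m)
  -- `ϑ` has no fixed point on `lam`
  have hϑfix : ∀ a ∈ lam, ϑ • a = a → a = 1 := by
    intro a ha h1
    refine hθ2 a ha ?_
    have h2 : θ' • a * a⁻¹ ∈ zm M J := hθ'm a
    have h3 : θ • (θ' • a) = a := by rw [smul_smul]; exact h1
    have h4 : θ • (θ' • a * a⁻¹) = θ' • a * a⁻¹ := h2 θ hθ
    rw [smul_mul', smul_inv', h3] at h4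
    have h5 : θ • a * a⁻¹ = (θ' • a * a⁻¹)⁻¹ := by
      rw [← h4, mul_inv_rev, inv_inv]
    rw [h5]
    exact inv_mem h2
  -- `[w, ϑ]`
  have hϑL : ∀ v ∈ L, ϑ • v ∈ L := by
    intro v hv
    obtain ⟨v', hv', he⟩ := (hL _).1 (hϑlam (π v) ((hL _).2 ⟨v, hv, rfl⟩))
    have h1 : π (ϑ • v * v'⁻¹) = 1 := by rw [map_mul, map_inv, E.act, he, mul_inv_cancel]
    have h2 := L.mul_mem (hR _ h1) hv'
    rwa [inv_mul_cancel_right] at h2
  have hEk : ∀ s : H, ∀ w : W, (ϑ • w) * w⁻¹ ∈ em W (cj s J) ⊔ zm W (cj s J) := by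
    intro s
    have h1 : ∀ x : H, (∃ t : H, x ∈ cj t J) → x ∈ (am (em W (cj s J) ⊔ zm W (cj s J)) : Subgroup H) := by
      rintro x ⟨t, hx⟩
      by_cases e : cj t J = cj s J
      · exact fun w => mem_sup_left (by rw [← e]; exact comm_mem_em hx w)
      · exact fun w => mem_sup_right (hemW _ (hcJ t) _ (hcJ s) e (comm_mem_em hx w))
    have h2 : ϑ ∈ (am (em W (cj s J) ⊔ zm W (cj s J)) : Subgroup H) := by
      refine mul_mem (h1 θ ⟨1, by rw [cj_one]; exact hθ⟩) ?_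
      refine (closure_le (am (em W (cj s J) ⊔ zm W (cj s J)) : Subgroup H)).2 ?_ hθ'
      rintro x ⟨t, -, -, hx⟩
      exact h1 x ⟨t, hx⟩
    exact fun w => h2 w
  -- `T₀` centralises `[v, ϑ]`, `v ∈ L`
  have hLfix : ∀ v ∈ L, ∀ t ∈ T, t • π v = π v := fun v hv t ht => F.fix t ht _ ((hL _).2 ⟨v, hv, rfl⟩)
  have hT₀fix : ∀ v ∈ L, ∀ t ∈ T₀, t • ((ϑ • v) * v⁻¹) = (ϑ • v) * v⁻¹ := by
    intro v hv
    have h0 : T₀ ≤ MulAction.stabilizer H ((ϑ • v) * v⁻¹) := by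
      refine (closure_le _).2 ?_
      rintro t ⟨s, hs, ht⟩
      rw [SetLike.mem_coe, MulAction.mem_stabilizer_iff]
      obtain ⟨u, hu, z, hz, huz⟩ := mem_sup.1 (hEk s v)
      have hx : (ϑ • v) * v⁻¹ ∈ L := L.mul_mem (hϑL v hv) (L.inv_mem hv)
      have h1 : ∀ t' ∈ T ⊓ cj s J, t' • π u = π u := by
        intro t' ht'
        have h2 := hLfix _ hx t' ht'.1
        rw [← huz, map_mul, smul_mul'] at h2
        have h3 : t' • π z = π z := by rw [← E.act, hz t' ht'.2]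
        rw [h3] at h2
        exact mul_right_cancel h2
      have h2 := claim' s hs u hu h1 t ht
      rw [← huz, smul_mul', h2, hz t ht.2]
    intro t ht
    exact MulAction.mem_stabilizer_iff.1 (h0 ht)
  -- the map `a ↦ [a, ϑ]` on `lam`
  let f : lam → lam := fun a => ⟨(ϑ • (a : M)) * (a : M)⁻¹, lam.mul_mem (hϑlam a a.2) (lam.inv_mem a.2)⟩
  have hf : Function.Injective f := by
    intro a b hab
    have h1 : (ϑ • (a : M)) * (a : M)⁻¹ = (ϑ • (b : M)) * (b : M)⁻¹ := congrArg Subtype.val hab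
    have h2 : ϑ • ((a : M) * (b : M)⁻¹) = (a : M) * (b : M)⁻¹ := by
      rw [smul_mul', smul_inv']
      rw [mul_inv_eq_iff_eq_mul] at h1
      rw [h1, mul_assoc (ϑ • (b : M)), mul_comm (ϑ • (b : M)) ((b : M)⁻¹ * a), mul_inv_cancel_right, mul_comm]
    have h3 := hϑfix _ (lam.mul_mem a.2 (lam.inv_mem b.2)) h2
    exact Subtype.ext (mul_inv_eq_one.1 h3)
  have hfs : Function.Surjective f := Finite.surjective_of_injective hf
  -- `T₀` centralises `L`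
  have hT₀L : ∀ v ∈ L, ∀ t ∈ T₀, t • v = v := by
    intro v hv t ht
    obtain ⟨⟨a, ha⟩, hfa⟩ := hfs ⟨π v, (hL _).2 ⟨v, hv, rfl⟩⟩
    obtain ⟨v', hv', rfl⟩ := (hL _).1 ha
    have h1 : (ϑ • π v') * (π v')⁻¹ = π v := congrArg Subtype.val hfa
    have h2 : π (v * ((ϑ • v') * v'⁻¹)⁻¹) = 1 := by
      rw [map_mul, map_inv, map_mul, map_inv, E.act, h1, mul_inv_cancel]
    have h3 := E.cen _ h2 t
    rw [smul_mul', smul_inv', hT₀fix v' hv' t ht] at h3
    exact mul_right_cancel h3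
  -- `T` centralises `[v, ϑ]`
  have hTfix : ∀ v ∈ L, ∀ t ∈ T, t • ((ϑ • v) * v⁻¹) = (ϑ • v) * v⁻¹ := by
    intro v hv t ht
    have h1 : π ((t • v) * v⁻¹) = 1 := by
      rw [map_mul, map_inv, E.act, hLfix v hv t ht, mul_inv_cancel]
    set r := (t • v) * v⁻¹ with hr
    have htv : t • v = r * v := by rw [hr, inv_mul_cancel_right]
    have h2 : t • (ϑ • v) = (t * ϑ * t⁻¹ * ϑ⁻¹) • (ϑ • (t • v)) := by
      rw [smul_smul, smul_smul, smul_smul]
      congr 1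
      group
    rw [smul_mul', smul_inv', h2, htv, smul_mul' ϑ, E.cen r h1 ϑ, smul_mul', E.cen r h1,
      hT₀L _ (hϑL v hv) _ (hϑ t ht), mul_inv_rev]
    rw [mul_comm v⁻¹ r⁻¹, mul_comm r (ϑ • v), mul_assoc, mul_inv_cancel_left]
  -- contradiction
  apply hlam
  intro a ha
  obtain ⟨⟨b, hb⟩, hfb⟩ := hfs ⟨a, ha⟩
  obtain ⟨v, hv, rfl⟩ := (hL _).1 hb
  have h1 : (ϑ • π v) * (π v)⁻¹ = a := congrArg Subtype.val hfb
  have h2 := hfix _ (L.mul_mem (hϑL v hv) (L.inv_mem hv)) (hTfix v hv)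
  rw [map_mul, map_inv, E.act, h1] at h2
  rw [h2]
  exact one_mem _

end Cfsg.Agent.Omega.NO3S.FOneQ
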