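import Cfsg.Agent.Omega.NO3S.FOneQ.Base

/-!
# (F1) for `q ≥ 4`: critical pairs

* `Fq.ws_le_o2_of_walk` : at distance `< n` the group `W_x` lies in `O₂(C_G(y))`;
* `Side X Y T Q L` : one side of a critical pair `(X, Y)`: `Fq T Q L Y`, `W_X ≤ O₂(C_G(L))`,
  `[W_X, W_Y] ≤ W_X ∩ W_Y`, `[W_X, W_Y] ≠ 1`; `sides` : both sides;
* `Side.card_le` : no over-offender at `Y`: `|W_X : C_{W_X}(W_Y)| ≤ |M : C_M(W_X)| ≤ |W_Y : C_{W_Y}(W_X)|`;
* `Side.false` : exactness contradicts the K-input `PSf`;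
* `Fq.no_crit` : **there is no critical pair in the case (F1')**.
-/

set_option autoImplicit false
set_option linter.unusedSectionVars false

namespace Cfsg.Agent.Omega.NO3S.FOneQ

open Subgroup Cfsg Cfsg.Agent.ZN Cfsg.Agent.Omega.NO3S.PT Cfsg.Agent.Omega.NO3S.FarQ
open Cfsg.Agent.Omega.NOThree.Pts (Walk)
open Cfsg.Agent.Omega.NO3S.PtGeom (Pt inc)
open Cfsg.Agent.ClassTwoFusion.Quad (cv mem_cv cv_anti)
open scoped Pointwise

universe u

variable {G : Type u} [Group G]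

theorem le_normalizer_of_conj {A N : Subgroup G} (h : ∀ a ∈ A, ∀ n ∈ N, a * n * a⁻¹ ∈ N) :
    A ≤ normalizer (N : Set G) := by
  intro a ha
  rw [mem_normalizer_iff]
  intro x
  refine ⟨h a ha x, fun hx => ?_⟩
  have h1 := h a⁻¹ (inv_mem ha) _ hx
  have e : a⁻¹ * (a * x * a⁻¹) * a⁻¹⁻¹ = x := by group
  rwa [e] at h1

theorem conj_mem_of {A N : Subgroup G} (h : A ≤ normalizer (N : Set G)) {a n : G} (ha : a ∈ A) (hn : n ∈ N) :
    a * n * a⁻¹ ∈ N := (mem_normalizer_iff.1 (h ha) n).1 hn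

theorem conj_mem_centralizer {A : Subgroup G} {a c : G} (ha : a ∈ normalizer (A : Set G))
    (hc : c ∈ centralizer (A : Set G)) : a * c * a⁻¹ ∈ centralizer (A : Set G) := by
  have h1 : a * c * a⁻¹ ∈ cj a (centralizer (A : Set G)) := conj_mem_cj hc
  rwa [cj_centralizer, cj_eq_iff.2 ha] at h1

/-- `O₂(C) ∩ D` lies in `O₂(D)`, `D ≤ C` -/
theorem inf_le_o2 {C D : Subgroup G} (h : D ≤ C) : o2 C ⊓ D ≤ o2 D := by
  refine le_o2 inf_le_right ((isPGroup_o2 _).to_le inf_le_left) ?_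
  refine le_normalizer_of_conj fun a ha n hn => ⟨conj_mem_of (le_normalizer_o2 C) (h ha) hn.1, ?_⟩
  exact D.mul_mem (D.mul_mem ha hn.2) (D.inv_mem ha)

/-- `O₂(D) ≤ O₂(C)` for `D` normal in `C` -/
theorem o2_le_o2 {C D : Subgroup G} (h : D ≤ C) (hn : C ≤ normalizer (D : Set G)) : o2 D ≤ o2 C :=
  le_o2 ((o2_le _).trans h) (isPGroup_o2 _) (hn.trans (normalizer_le_normalizer_o2 _))

namespace Fq

variable [Finite G] {S : Sylow 2 G} {P V Z : Subgroup G} (h : Fq S P V Z)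
include h

theorem ws_le_o2 (x : Pt Z) : ws V x.sg ≤ o2 (centralizer (x.sg : Set G)) := by
  have hx : x.sg ≤ ws V x.sg := by
    obtain ⟨g, hg⟩ := x.exists_smul
    have e : x.sg = cj g Z := by rw [hg]; rfl
    rw [e, ws_cj, cj_le_cj]
    exact h.pl.Z_le_ws
  refine le_o2 ?_ ?_ ?_
  · exact (h.pl.ws_comm x.isCj).trans (centralizer_le hx)
  · intro a
    exact ⟨1, Subtype.ext (by rw [pow_one, pow_two]; exact PtGeom.ws_sq_pt h.pl x.isCj a a.2)⟩
  · exact centralizer_le_ws _ _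

theorem line_le_ws {x : Pt Z} {l : Pt V} (hx : inc x l) : l.sg ≤ ws V x.sg := le_ws l.isCj hx

theorem pt_le_ws (x : Pt Z) : x.sg ≤ ws V x.sg := by
  obtain ⟨g, hg⟩ := x.exists_smul
  have e : x.sg = cj g Z := by rw [hg]; rfl
  rw [e, ws_cj, cj_le_cj]
  exact h.pl.Z_le_ws

/-- one step of a walk -/
theorem ws_le_o2_line {x y : Pt Z} {l : Pt V} (hy : inc y l)
    (hc : NOThree.Pts.Com (fun x : Pt Z => ws V x.sg) x y)
    (h1 : ws V x.sg ≤ o2 (centralizer (y.sg : Set G))) :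
    ws V x.sg ≤ o2 (centralizer (l.sg : Set G)) := by
  have h2 : ws V x.sg ≤ centralizer (l.sg : Set G) := by
    intro a ha
    rw [mem_centralizer_iff]
    intro b hb
    exact (hc a ha b (h.line_le_ws hy hb)).symm
  exact (le_inf h1 h2).trans (inf_le_o2 (centralizer_le hy))

/-- at distance `< n` the group `W_x` lies in `O₂(C_G(y))` -/
theorem ws_le_o2_of_walk {n : ℕ}
    (hm : ∀ k < n, ∀ a b : Pt Z, Walk (inc (V := V)) k a b → NOThree.Pts.Com (fun x : Pt Z => ws V x.sg) a b) :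
    ∀ k < n, ∀ x y : Pt Z, Walk (inc (V := V)) k x y → ws V x.sg ≤ o2 (centralizer (y.sg : Set G)) := by
  intro k
  induction k with
  | zero =>
    intro _ x y hxy
    cases hxy with
    | zero _ => exact h.ws_le_o2 x
  | succ k ih =>
    intro hk x y hxy
    have hxy0 := hxy
    cases hxy with
    | @step _ _ y' _ l hp hy' hy =>
      have h1 := h.ws_le_o2_line hy' (hm k (by omega) x y' hp) (ih (by omega) x y' hp)
      have h5 : centralizer ((ws V y.sg : Subgroup G) : Set G) ≤ centralizer (l.sg : Set G) :=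
        centralizer_le (h.line_le_ws hy)
      have h6 : ws V x.sg ≤ centralizer ((ws V y.sg : Subgroup G) : Set G) := by
        intro a ha
        rw [mem_centralizer_iff]
        intro b hb
        exact (hm (k + 1) hk x y hxy0 a ha b hb).symm
      have h7 := (le_inf h1 h6).trans (inf_le_o2 h5)
      refine h7.trans (o2_le_o2 (centralizer_le (h.pt_le_ws y)) ?_)
      exact le_normalizer_of_conj fun a ha n hn => conj_mem_centralizer (centralizer_le_ws _ _ ha) hn

end Fq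

/-- One side of a critical pair `(X, Y)`. -/
structure Side [Finite G] (X Y : Subgroup G) (T : Sylow 2 G) (Q L : Subgroup G) : Prop where
  fq : Fq T Q L Y
  le_o2 : ws L X ≤ o2 (centralizer (L : Set G))
  comm : ∀ a ∈ ws L X, ∀ b ∈ ws L X, a * b = b * a
  sq : ∀ a ∈ ws L X, a * a = 1
  left : ∀ a ∈ ws L X, ∀ b ∈ ws L Y, a * b * a⁻¹ * b⁻¹ ∈ ws L X
  ne : ¬ ws L X ≤ centralizer ((ws L Y : Subgroup G) : Set G)

/-- the last line of a critical pair -/
theorem last [Finite G] {S : Sylow 2 G} {P V Z : Subgroup G} (h : Fq S P V Z) {n : ℕ} {x y : Pt Z}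
    (hc : NOThree.Pts.Crit (inc (Z := Z) (V := V)) (fun x : Pt Z => ws V x.sg) (n + 1) x y) :
    ∃ l : Pt V, inc y l ∧ ws V x.sg ≤ o2 (centralizer (l.sg : Set G)) := by
  have hp := hc.walk
  cases hp with
  | @step _ _ y' _ l hp hy' hy =>
    have h1 := h.ws_le_o2_of_walk hc.min n (by omega) x y' hp
    exact ⟨l, hy, h.ws_le_o2_line hy' (hc.min n (by omega) x y' hp) h1⟩

theorem crit_symm {Z V : Subgroup G} {n : ℕ} {x y : Pt Z}
    (hc : NOThree.Pts.Crit (inc (Z := Z) (V := V)) (fun x : Pt Z => ws V x.sg) n x y) :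
    NOThree.Pts.Crit (inc (Z := Z) (V := V)) (fun x : Pt Z => ws V x.sg) n y x :=
  ⟨hc.walk.symm, fun h => hc.ne h.symm, hc.min⟩

theorem cent_of_crit [Finite G] {S : Sylow 2 G} {P V Z : Subgroup G} (h : Fq S P V Z) {n : ℕ} {x y : Pt Z}
    (hc : NOThree.Pts.Crit (inc (Z := Z) (V := V)) (fun x : Pt Z => ws V x.sg) (n + 1) x y) :
    ws V x.sg ≤ centralizer (y.sg : Set G) := by
  obtain ⟨l, hy, hle⟩ := last h hc
  exact (hle.trans (o2_le _)).trans (centralizer_le hy)

/-- **the side at `y` of a critical pair** -/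
theorem side [Finite G] {S : Sylow 2 G} {P V Z : Subgroup G} (h : Fq S P V Z) {n : ℕ} {x y : Pt Z}
    (hc : NOThree.Pts.Crit (inc (Z := Z) (V := V)) (fun x : Pt Z => ws V x.sg) (n + 1) x y) :
    ∃ (T : Sylow 2 G) (Q L : Subgroup G), IsCj V L ∧ Side x.sg y.sg T Q L := by
  obtain ⟨l, hy, hle⟩ := last h hc
  obtain ⟨g, hg1, hg2⟩ := PtGeom.exists_conj_flag h.pl y.isCj l.isCj hy
  have hf := h.conj g
  rw [← hg1, ← hg2] at hf
  have hw : ∀ X : Subgroup G, ws l.sg X = ws V X := fun X => by rw [hg2, ws_cj_left]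
  refine ⟨g • S, cj g P, l.sg, l.isCj, hf, ?_, ?_, ?_, ?_, ?_⟩
  · rw [hw]; exact hle
  · rw [hw]
    exact fun a ha b hb => (mem_centralizer_iff.1 (h.pl.ws_comm x.isCj ha) b hb).symm
  · rw [hw]
    exact PtGeom.ws_sq_pt h.pl x.isCj
  · rw [hw, hw]
    intro a ha b hb
    have e : a * b * a⁻¹ * b⁻¹ = a * (b * a⁻¹ * b⁻¹) := by group
    rw [e]
    refine mul_mem ha (conj_mem_of (centralizer_le_ws V x.sg) (cent_of_crit h (crit_symm hc) hb) (inv_mem ha))
  · rw [hw, hw]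
    intro h1
    exact hc.ne fun a ha b hb => (mem_centralizer_iff.1 (h1 ha) b hb).symm

namespace Side

variable [Finite G] {X Y : Subgroup G} {T : Sylow 2 G} {Q L : Subgroup G} (h : Side X Y T Q L)
include h

theorem le_cL : ws L X ≤ centralizer (L : Set G) := h.le_o2.trans (o2_le _)

theorem le_C : ws L X ≤ centralizer (Y : Set G) := h.le_cL.trans (centralizer_le h.fq.pl.ZV)

variable {H W M : Type u} [Group H] [CommGroup W] [CommGroup M] [MulDistribMulAction H W] [MulDistribMulAction H M]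
  (r : Rz L Y H W M)

theorem comm_im : ∀ a ∈ r.im (ws L X), ∀ b ∈ r.im (ws L X), a * b = b * a := by
  intro a ha b hb
  obtain ⟨x, hx, rfl⟩ := (r.mem_im h.le_C).1 ha
  obtain ⟨y, hy, rfl⟩ := (r.mem_im h.le_C).1 hb
  rw [← map_mul, ← map_mul]
  exact congrArg r.ρ (Subtype.ext (h.comm x hx y hy))

theorem sq_im : ∀ a ∈ r.im (ws L X), a * a = 1 := by
  intro a ha
  obtain ⟨x, hx, rfl⟩ := (r.mem_im h.le_C).1 ha
  rw [← map_mul, ← map_one r.ρ]
  exact congrArg r.ρ (Subtype.ext (h.sq x hx))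

theorem quad_im : ∀ a ∈ r.im (ws L X), ∀ b ∈ r.im (ws L X), ∀ m : M, b • ((a • m) * m⁻¹) = (a • m) * m⁻¹ := by
  intro a ha b hb m
  obtain ⟨x, hx, rfl⟩ := (r.mem_im h.le_C).1 ha
  obtain ⟨y, hy, rfl⟩ := (r.mem_im h.le_C).1 hb
  obtain ⟨w, rfl⟩ := r.psurj m
  rw [← r.pact, ← map_inv, ← map_mul, ← r.pact]
  congr 1
  apply r.inj
  rw [r.act, map_mul, map_inv, r.act]
  have h1 := h.left x hx _ (r.ι_mem w)
  have h2 := h.comm y hy _ h1
  show y * (x * r.ι w * x⁻¹ * (r.ι w)⁻¹) * y⁻¹ = x * r.ι w * x⁻¹ * (r.ι w)⁻¹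
  rw [h2, mul_inv_cancel_right]

theorem o2_im : r.im (ws L X) ≤ o2 (fixer (r.mw L)) := by
  set N := o2 (centralizer (L : Set G)) with hN
  have hNC : N ≤ centralizer (Y : Set G) := (o2_le _).trans (centralizer_le h.fq.pl.ZV)
  have h1 : r.im (ws L X) ≤ r.im N := by
    intro a ha
    obtain ⟨x, hx, rfl⟩ := (r.mem_im h.le_C).1 ha
    exact (r.mem_im hNC).2 ⟨x, h.le_o2 hx, rfl⟩
  refine h1.trans (Cfsg.Agent.ZN.le_o2 ?_ ?_ ?_)
  · intro a ha
    obtain ⟨x, hx, rfl⟩ := (r.mem_im hNC).1 ha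
    rintro _ ⟨w, hw, rfl⟩
    rw [← r.pact]
    congr 1
    apply r.inj
    rw [r.act]
    show x * r.ι w * x⁻¹ = r.ι w
    rw [← mem_centralizer_iff.1 (o2_le _ hx) _ hw, mul_inv_cancel_right]
  · exact ((isPGroup_o2 _).comap_of_injective _ (subtype_injective _)).map _
  · refine le_normalizer_of_conj fun x hx a ha => ?_
    obtain ⟨c, rfl⟩ := r.surj x
    obtain ⟨n, hn, rfl⟩ := (r.mem_im hNC).1 ha
    have hcL : (c : G) ∈ normalizer (L : Set G) := by
      have key : ∀ c : centralizer (Y : Set G), r.ρ c ∈ fixer (r.mw L) → ∀ v ∈ L, (c : G) * v * (c : G)⁻¹ ∈ L := by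
        intro c hc v hv
        obtain ⟨w, rfl⟩ := (r.rng v).1 (h.fq.V_le_ws hv)
        have h2 := hc (r.π w) ⟨w, hv, rfl⟩
        rw [← r.pact] at h2
        have h3 : r.π ((r.ρ c • w) * w⁻¹) = 1 := by rw [map_mul, map_inv, h2, mul_inv_cancel]
        rw [r.pker, map_mul, map_inv, r.act] at h3
        have h4 := L.mul_mem (h.fq.pl.ZV h3) hv
        rwa [inv_mul_cancel_right] at h4
      rw [mem_normalizer_iff]
      intro v
      refine ⟨key c hx v, fun hv => ?_⟩
      have h2 := key c⁻¹ (by rw [map_inv]; exact inv_mem hx) _ hv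
      have e : ((c⁻¹ : centralizer (Y : Set G)) : G) * (c * v * (c : G)⁻¹) *
        ((c⁻¹ : centralizer (Y : Set G)) : G)⁻¹ = v := by
        rw [InvMemClass.coe_inv]; group
      rwa [e] at h2
    have h2 : (c : G) * n * (c : G)⁻¹ ∈ N := by
      have h3 : normalizer (L : Set G) ≤ normalizer ((centralizer (L : Set G) : Subgroup G) : Set G) :=
        le_normalizer_of_conj fun a ha n hn => conj_mem_centralizer ha hn
      exact conj_mem_of (h3.trans (normalizer_le_normalizer_o2 _)) hcL hn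
    exact (r.mem_im hNC).2 ⟨_, h2, by rw [← map_inv, ← map_mul, ← map_mul]; rfl⟩

theorem im_ne : r.im (ws L X) ≠ ⊥ := by
  intro h1
  apply h.ne
  intro x hx
  have h2 : r.ρ ⟨x, h.le_C hx⟩ ∈ r.im (ws L X) := (r.mem_im h.le_C).2 ⟨x, hx, rfl⟩
  rw [h1, mem_bot, r.ρ_eq_one_iff] at h2
  exact h2

/-- no over-offender at `Y` -/
theorem card_le (hno : NoOv H (r.mw L)) :
    (centralizer ((ws L Y : Subgroup G) : Set G)).relIndex (ws L X) ≤ (zm M (r.im (ws L X))).index := by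
  rw [← r.card_im h.le_C]
  exact hno _ (h.o2_im r) (h.comm_im r) (h.sq_im r) (h.quad_im r)

theorem index_le : (zm M (r.im (ws L X))).index ≤
    (centralizer ((ws L X : Subgroup G) : Set G)).relIndex (ws L Y) := by
  rw [← r.index_zmW h.le_C]
  exact r.index_zm_le _

/-- **exactness contradicts the K-input** -/
theorem false {Pi : Set (Subgroup H)} (P : PSf (r.im (T : Subgroup G)) (r.mw L) Pi) (hno : NoOv H (r.mw L))
    (heq : (centralizer ((ws L X : Subgroup G) : Set G)).relIndex (ws L Y) ≤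
      (centralizer ((ws L Y : Subgroup G) : Set G)).relIndex (ws L X)) : False := by
  have hfH := r.finH
  have h1 := h.card_le r hno
  have h2 := h.index_le r
  have hE : Exact (r.mw L) (r.im (ws L X)) :=
    { ne := h.im_ne r
      le := h.o2_im r
      comm := h.comm_im r
      sq := h.sq_im r
      quad := h.quad_im r
      card := by
        rw [r.card_im h.le_C]
        omega }
  have h3 : zm W (r.im (ws L X)) = (zm M (r.im (ws L X))).comap r.π := by
    refine r.zmW_eq ?_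
    rw [r.index_zmW h.le_C]
    omega
  have F := h.fq.fg r
  -- `O₂(C_H(lam)) ≤ T`
  have hAT : r.im (ws L X) ≤ r.im (T : Subgroup G) := by
    have : Fact (Nat.Prime 2) := ⟨Nat.prime_two⟩
    refine (h.o2_im r).trans ?_
    have hTf : r.im (T : Subgroup G) ≤ fixer (r.mw L) := fun t ht a ha => F.fix t ht a ha
    refine o2_le_of_sylow hTf F.two ?_
    intro hd
    exact F.ndvd (hd.trans ⟨_, (relIndex_mul_index hTf).symm⟩)
  refine core r.ext_ F P (L := r.cw L) (fun m => Iff.rfl) (fun w hw => ?_) (fun w hw ht => ?_) hE hAT fun w hw => ?_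
  · exact h.fq.pl.ZV ((r.pker w).1 hw)
  · rw [r.pker]
    refine h.fq.pl.omega _ (h.fq.pl.VS hw) (h.fq.pl.Vsq _ hw) fun s hs => ?_
    have h4 := ht _ ((r.mem_im h.fq.pl.S_le).2 ⟨s, hs, rfl⟩)
    have h5 := r.act ⟨s, h.fq.pl.S_le hs⟩ w
    rw [h4, eq_mul_inv_iff_mul_eq] at h5
    exact h5.symm
  · have h4 : w ∈ zm W (r.im (ws L X)) := by
      rw [h3]
      exact hw
    exact h4

end Side

/-- **The K-input** for (F1), `q ≥ 4`: modules `M` of `K`-groups `H` with a flag `lam`: no over-offender, and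
blocks. -/
def KIn : Prop :=
  ∀ (H M : Type u) [Group H] [CommGroup M] [MulDistribMulAction H M], IsKGroupWith IsKnownSimple' H →
    ∀ (T : Subgroup H) (lam : Subgroup M), Fg T lam → NoOv H lam ∧ ∃ Pi, PSf T lam Pi

/-- **There is no critical pair of points.** -/
theorem Fq.no_crit [Finite G] (hKI : KIn.{u}) (hK : IsKProper G) {S : Sylow 2 G} {P V Z : Subgroup G}
    (h : Fq S P V Z) (hZ : centralizer (Z : Set G) ≠ ⊤) {n : ℕ} {x y : Pt Z}
    (hc : NOThree.Pts.Crit (inc (Z := Z) (V := V)) (fun x : Pt Z => ws V x.sg) (n + 1) x y) : False := by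
  have key : ∀ {x y : Pt Z},
      NOThree.Pts.Crit (inc (Z := Z) (V := V)) (fun x : Pt Z => ws V x.sg) (n + 1) x y →
      (centralizer ((ws V y.sg : Subgroup G) : Set G)).relIndex (ws V x.sg) ≤
        (centralizer ((ws V x.sg : Subgroup G) : Set G)).relIndex (ws V y.sg) ∧
      ¬ (centralizer ((ws V x.sg : Subgroup G) : Set G)).relIndex (ws V y.sg) ≤
        (centralizer ((ws V y.sg : Subgroup G) : Set G)).relIndex (ws V x.sg) := by
    intro x y hc
    obtain ⟨T, Q, L, ⟨g, hg⟩, hs⟩ := side h hc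
    have hw : ∀ X : Subgroup G, ws L X = ws V X := fun X => by rw [hg, ws_cj_left]
    have hab : ∀ a ∈ ws L y.sg, ∀ b ∈ ws L y.sg, a * b = b * a := fun a ha b hb =>
      (mem_centralizer_iff.1 (hs.fq.pl.Wcomm ha) b hb).symm
    obtain ⟨H, W, M, _, _, _, _, _, ⟨r⟩⟩ := exists_rz L y.sg hab
    have hC : centralizer (y.sg : Set G) ≠ ⊤ := by
      obtain ⟨k, hk⟩ := y.exists_smul
      have e : y.sg = cj k Z := by rw [hk]; rfl
      rw [e, ← cj_centralizer]
      intro h1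
      apply hZ
      rw [eq_top_iff]
      intro c _
      have h2 : k * c * k⁻¹ ∈ cj k (centralizer (Z : Set G)) := by rw [h1]; exact mem_top _
      rw [mem_cj] at h2
      have e2 : k⁻¹ * (k * c * k⁻¹) * k = c := by group
      rwa [e2] at h2
    obtain ⟨hno, Pi, P⟩ := hKI H M (known_of_surj hK hC r.ρ r.surj) _ _ (hs.fq.fg r)
    have h1 := (hs.card_le r hno).trans (hs.index_le r)
    have h2 := fun e => hs.false r P hno e
    rw [hw, hw] at h1 h2
    exact ⟨h1, h2⟩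
  exact (key hc).2 (key (crit_symm hc)).1

end Cfsg.Agent.Omega.NO3S.FOneQ
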