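import Cfsg.Agent.Omega.NO3S.FOneQ.Crit
import Cfsg.Agent.Omega.NO3S.PLOf

/-!
# (F1) for `q ≥ 4` in the frame of NO-3S

`fOneQ : KIn → HypJ S P → Uniq S P → NatP F V P → 4 ≤ |F| → |Z| = |F| → ¬ kx V Z ≤ C_G(V)`; `FOneQP` : the same as a
`Prop` on the class `K`, for the sockets `FarQ`, `MidQ`, `OneQ`.
-/

set_option autoImplicit false

namespace Cfsg.Agent.Omega.NO3S.FOneQ

open Subgroup Cfsg Cfsg.Agent.ZN Cfsg.Agent.Omega.NO3S.PT Cfsg.Agent.Omega.NO3S
open Cfsg.Agent.Omega.MinPar Cfsg.Agent.Omega.Frame Cfsg.Agent.Omega.FrameNOFF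
open Cfsg.Agent.MinSimple.VModule
open scoped Pointwise

universe u

variable {G : Type u} [Group G] [Finite G] {S : Sylow 2 G} {P : Subgroup G}

/-- **(F1)**, `q ≥ 4`, from the K-input. -/
theorem fOneQ (hKI : KIn.{u}) (h : Hyp S P) (hU : Uniq (S : Subgroup G) P) {F : Type*} [Field F] [Finite F]
    [CharP F 2] (hF : 4 ≤ Nat.card F) (M : NatP F (zl (S : Subgroup G) P) P)
    (hq : Nat.card (zc (S : Subgroup G)) = Nat.card F) :
    ¬ kx (zl (S : Subgroup G) P) (zc (S : Subgroup G)) ≤ centralizer (zl (S : Subgroup G) P : Set G) := by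
  intro nf
  obtain ⟨h1, -⟩ := pl_of_uniq h hU M hq
  have hf : Fq S P (zl (S : Subgroup G) P) (zc (S : Subgroup G)) := ⟨h1, hU.ns h.star, by rw [hq]; exact hF, nf⟩
  obtain ⟨n, hn, y, hc⟩ := h.exists_critN
  obtain ⟨k, rfl⟩ : ∃ k, n = k + 1 := ⟨n - 1, by omega⟩
  refine hf.no_crit hKI h.ctx.kproper ?_ (PtGeom.crit h1 rfl hc)
  intro e
  have hs := h.ctx.simple
  obtain ⟨z, hz, hz1⟩ := h1.pt_ne_bot h1.isCj_self
  have h2 : z ∈ center G := by
    rw [mem_center_iff]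
    intro g
    have h3 : g ∈ centralizer (zc (S : Subgroup G) : Set G) := by rw [e]; exact mem_top g
    exact (mem_centralizer_iff.mp h3 z hz).symm
  rcases hs.eq_bot_or_eq_top_of_normal (center G) inferInstance with h4 | h4
  · rw [h4, mem_bot] at h2
    exact hz1 h2
  · apply h.ctx.nonComm
    refine ⟨⟨fun a b => ?_⟩⟩
    have h5 : a ∈ center G := by rw [h4]; exact mem_top a
    exact (mem_center_iff.mp h5 b).symm

/-- **(F1)** for the sockets `FarQ`, `MidQ`, `OneQ`. -/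
def FOneQP (K : Cls.{u}) : Prop :=
  ∀ (G : Type u) [Group G] [Finite G], K G → ∀ (S : Sylow 2 G) (P : Subgroup G), HypJ S P →
    ∀ (F : Type) [Field F] [Finite F] [CharP F 2], 4 ≤ Nat.card F →
      NatP F (zl (S : Subgroup G) P) P → Nat.card (zc (S : Subgroup G)) = Nat.card F → Uniq (S : Subgroup G) P →
      ¬ kx (zl (S : Subgroup G) P) (zc (S : Subgroup G)) ≤ centralizer (zl (S : Subgroup G) P : Set G)

theorem fOneQP (K : Cls.{u}) (hKI : KIn.{u}) : FOneQP K :=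
  fun _ _ _ _ _ _ h _ _ _ _ hF M hq hU => fOneQ hKI h.toHyp hU hF M hq

end Cfsg.Agent.Omega.NO3S.FOneQ
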