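import Cfsg.Agent.Omega.NO3S.FOneQ.Core
import Cfsg.Agent.OddHalf.Known

/-!
# (F1) for `q ≥ 4`: the modules `W_Z` and `W_Z / Z` of `C_G(Z)` as abstract modules

* `Rz V Z H W M` : `H` is the image of `C_G(Z)` in `Aut(W)`, `W ≅ ws V Z`, `M = W / Z`;
* `exists_rz`;
* `known_of_surj` : a homomorphic image of a proper subgroup is a `K`-group.
-/

set_option autoImplicit false
set_option linter.unusedSectionVars false

namespace Cfsg.Agent.Omega.NO3S.FOneQ

open Subgroup Cfsg Cfsg.Agent.ZN Cfsg.Agent.Omega.NO3S.PT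
open scoped Pointwise

universe u

variable {G : Type u} [Group G]

/-- non-abelian simple sections of an image of a proper subgroup are known -/
theorem known_of_surj (hK : IsKProper G) {C : Subgroup G} (hC : C ≠ ⊤) {Y : Type u}
    [Group Y] (f : C →* Y) (hf : Function.Surjective f) : IsKGroupWith IsKnownSimple' Y := by
  intro L N _ hs hna
  let g : ↥(L.comap f) →* L ⧸ N := (QuotientGroup.mk' N).comp (f.subgroupComap L)
  have hg : Function.Surjective g := by
    refine (QuotientGroup.mk'_surjective N).comp ?_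
    rintro ⟨y, hy⟩
    obtain ⟨x, rfl⟩ := hf y
    exact ⟨⟨x, hy⟩, rfl⟩
  let e : ↥(L.comap f) ⧸ g.ker ≃* L ⧸ N := QuotientGroup.quotientKerEquivOfSurjective g hg
  have hs' := OddHalf.Known.isSimple_congr e.symm hs
  have hna' : ¬ IsMulCommutative (↥(L.comap f) ⧸ g.ker) := by
    intro h
    apply hna
    refine ⟨⟨fun a b => ?_⟩⟩
    apply e.symm.injective
    rw [map_mul, map_mul]
    exact h.is_comm.comm _ _
  exact OddHalf.Known.isKnownSimple'_congr e hna' (hK C hC _ g.ker hs' hna')

/-- **Realisation**: `H` the image of `C_G(Z)` in `Aut(W)`, `W = ws V Z`, `M = W / Z`. -/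
structure Rz (V Z : Subgroup G) (H W M : Type u) [Group H] [CommGroup W] [CommGroup M] [MulDistribMulAction H W]
    [MulDistribMulAction H M] where
  ρ : centralizer (Z : Set G) →* H
  surj : Function.Surjective ρ
  ι : W →* G
  inj : Function.Injective ι
  rng : ∀ g, g ∈ ws V Z ↔ ∃ w, ι w = g
  act : ∀ (c : centralizer (Z : Set G)) w, ι (ρ c • w) = c * ι w * (c : G)⁻¹
  faith : ∀ h : H, (∀ w : W, h • w = w) → h = 1
  π : W →* M
  psurj : Function.Surjective π
  pact : ∀ (h : H) w, π (h • w) = h • π w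
  pker : ∀ w, π w = 1 ↔ ι w ∈ Z

theorem centralizer_le_ws (V Z : Subgroup G) :
    centralizer (Z : Set G) ≤ normalizer ((ws V Z : Subgroup G) : Set G) :=
  (centralizer_le_normalizer _).trans (normalizer_le_ws V Z)

theorem exists_rz (V Z : Subgroup G) (hab : ∀ a ∈ ws V Z, ∀ b ∈ ws V Z, a * b = b * a) :
    ∃ (H W M : Type u) (_ : Group H) (_ : CommGroup W) (_ : CommGroup M) (_ : MulDistribMulAction H W)
      (_ : MulDistribMulAction H M), Nonempty (Rz V Z H W M) := by
  let _ : CommGroup (ws V Z) :=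
    { (inferInstance : Group (ws V Z)) with mul_comm := fun a b => Subtype.ext (hab a a.2 b b.2) }
  let N : Subgroup (ws V Z) := Z.subgroupOf (ws V Z)
  let f : centralizer (Z : Set G) →* MulAut (ws V Z) :=
    (normalizerMonoidHom (ws V Z)).comp (inclusion (centralizer_le_ws V Z))
  have hf : ∀ (c : centralizer (Z : Set G)) (w : ws V Z), ((f c w : ws V Z) : G) = c * w * (c : G)⁻¹ :=
    fun c w => rfl
  have hN : ∀ h : f.range, N ≤ N.comap (((h : MulAut (ws V Z)) : ws V Z ≃* ws V Z) : ws V Z →* ws V Z) := by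
    rintro ⟨_, c, rfl⟩ w hw
    rw [mem_comap]
    have hw' : (w : G) ∈ Z := hw
    show ((f c w : ws V Z) : G) ∈ Z
    rw [hf, ← mem_centralizer_iff.1 c.2 _ hw', mul_inv_cancel_right]
    exact hw'
  let act : MulDistribMulAction f.range (ws V Z ⧸ N) :=
    { smul := fun h x => QuotientGroup.map N N _ (hN h) x
      one_smul := by rintro ⟨x⟩; rfl
      mul_smul := by rintro a b ⟨x⟩; rfl
      smul_mul := fun h x y => map_mul (QuotientGroup.map N N _ (hN h)) x y
      smul_one := fun h => map_one (QuotientGroup.map N N _ (hN h)) }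
  refine ⟨f.range, ws V Z, ws V Z ⧸ N, inferInstance, inferInstance, inferInstance, inferInstance, act, ⟨?_⟩⟩
  exact
    { ρ := f.rangeRestrict
      surj := f.rangeRestrict_surjective
      ι := (ws V Z).subtype
      inj := (ws V Z).subtype_injective
      rng := fun g => ⟨fun hg => ⟨⟨g, hg⟩, rfl⟩, by rintro ⟨w, rfl⟩; exact w.2⟩
      act := fun c w => rfl
      faith := by
        rintro ⟨h, hh⟩ h1
        exact Subtype.ext (MulEquiv.ext fun w => h1 w)
      π := QuotientGroup.mk' N
      psurj := QuotientGroup.mk'_surjective N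
      pact := fun h w => rfl
      pker := by
        intro w
        rw [← MonoidHom.mem_ker, QuotientGroup.ker_mk']
        rfl }

end Cfsg.Agent.Omega.NO3S.FOneQ
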